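import Groth.Agent.Cyc90.Dev.TensorStalk
import Groth.Agent.Cyc90.Dev.TensorFilt
import Groth.Agent.Amp73.GlobGen
import Groth.Agent.EGA73.Tensor

/-!
Twists of a module supported where a section of an invertible module is a frame, and the short exact
sequences of multiplication by a section.
-/

set_option autoImplicit false
set_option backward.isDefEq.respectTransparency.types false

noncomputable section

universe u

open CategoryTheory CategoryTheory.Limits AlgebraicGeometry Opposite TopologicalSpace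

namespace Groth.Agent.LC17.BlowLB

open Var76 (LineBundle.IsFrame LineBundle.res LineBundle.res_res LineBundle.res_smul)

variable {X : Scheme.{u}}

/-- `y ↦ y ⊗ t` -/
def tmRight (N : X.Modules) {G : X.Modules} (t : Γ(G, ⊤)) : N ⟶ CohB1.tensorMod N G :=
  ⟨PresheafOfModules.homMk (M₁ := N.val) (M₂ := (CohB1.tensorMod N G).val)
    { app := fun U => AddCommGrpCat.ofHom
        { toFun := fun (y : Γ(N, U.unop)) => Amp73.tm N G y (LineBundle.res G (le_top : U.unop ≤ ⊤) t)
          map_zero' := Amp73.tm_zero_left _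
          map_add' := fun y y' => Amp73.tm_add_left y y' _ }
      naturality := fun U V i => by
        ext y
        show Amp73.tm N G (LineBundle.res N i.unop.le y) (LineBundle.res G (le_top : V.unop ≤ ⊤) t) =
          LineBundle.res (CohB1.tensorMod N G) i.unop.le
            (Amp73.tm N G y (LineBundle.res G (le_top : U.unop ≤ ⊤) t))
        rw [Amp73.res_tm, LineBundle.res_res] }
    (fun _ r y => Amp73.tm_smul_left r y _)⟩

theorem tmRight_app (N : X.Modules) {G : X.Modules} (t : Γ(G, ⊤)) (U : X.Opens) (y : Γ(N, U)) :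
    (tmRight N t).app U y = Amp73.tm N G y (LineBundle.res G le_top t) := rfl

theorem bijective_stalk_tmRight (N : X.Modules) {G : X.Modules} (t : Γ(G, ⊤)) {U : X.Opens} {x : X}
    (hx : x ∈ U) (ht : LineBundle.IsFrame G U (LineBundle.res G le_top t)) :
    Function.Bijective (QC70.stalkMapM (tmRight N t) x) := by
  have h : ∀ d, QC70.stalkMapM (tmRight N t) x d =
      Cyc90.Dev.tmLin (F := N) (LineBundle.res G (le_top : U ≤ ⊤) t) hx d := by
    intro d
    obtain ⟨W, hW, hxW, s, rfl⟩ := Cyc90.Dev.exists_germ_le hx d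
    rw [QC70.stalkMapM_germ, tmRight_app, Cyc90.Dev.tmLin_germ _ hx hW, LineBundle.res_res]
  rw [show QC70.stalkMapM (tmRight N t) x = Cyc90.Dev.tmLin (F := N) (LineBundle.res G (le_top : U ≤ ⊤) t) hx from
    funext h]
  exact Cyc90.Dev.bijective_tmLin _ hx ht

/-- Twisting does not change a module supported where the section is a frame. -/
theorem isIso_tmRight (N : X.Modules) {G : X.Modules} (hG : PicF.IsInvertible G) (t : Γ(G, ⊤))
    (h : ∀ x : X, Subsingleton (N.presheaf.stalk x) ∨
      ∃ U : X.Opens, x ∈ U ∧ LineBundle.IsFrame G U (LineBundle.res G le_top t)) :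
    IsIso (tmRight N t) := by
  refine QC70.isIso_of_bijective_stalkMapM _ fun x => ?_
  rcases h x with hs | ⟨U, hxU, hU⟩
  · obtain ⟨e⟩ := Cyc90.Dev.nonempty_stalk_equiv hG N x
    haveI := hs
    haveI : Subsingleton ((CohB1.tensorMod N G).presheaf.stalk x) := e.symm.injective.subsingleton
    exact ⟨fun a b _ => Subsingleton.elim a b, fun y => ⟨0, Subsingleton.elim _ _⟩⟩
  · exact bijective_stalk_tmRight N t hxU hU

theorem nonempty_twist_iso (N : X.Modules) {G : X.Modules} (hG : PicF.IsInvertible G) (t : Γ(G, ⊤))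
    (h : ∀ x : X, Subsingleton (N.presheaf.stalk x) ∨
      ∃ U : X.Opens, x ∈ U ∧ LineBundle.IsFrame G U (LineBundle.res G le_top t)) (P : X.Modules) :
    Nonempty (CohB1.tensorMod N (CohB1.tensorMod G P) ≅ CohB1.tensorMod N P) := by
  haveI := isIso_tmRight N hG t h
  exact ⟨(EGA73.tensAssoc' N G P).symm ≪≫ (Crv77.twist P).mapIso (asIso (tmRight N t)).symm⟩

theorem isFinLocFree_of_isInvertible {L : X.Modules} (hL : PicF.IsInvertible L) : FlatMod.IsFinLocFree L := fun x => by
  obtain ⟨U, hx, hU⟩ := Mero90.isFinLocFreeOfRank_of_isInvertible hL x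
  exact ⟨U, 1, hx, hU⟩

/-- The sequence of multiplication by a section, twisted. -/
theorem exists_seq {A : X.Modules} (s : Coh.structureModule X ⟶ A) [Mono s] {P : X.Modules}
    (hP : PicF.IsInvertible P) :
    ∃ S : ShortComplex X.Modules, S.ShortExact ∧ Nonempty (S.X₁ ≅ P) ∧
      Nonempty (S.X₂ ≅ CohB1.tensorMod A P) ∧ Nonempty (S.X₃ ≅ CohB1.tensorMod (cokernel s) P) := by
  have hS : (ShortComplex.mk s (cokernel.π s) (cokernel.condition s)).ShortExact :=
    { exact := ShortComplex.exact_of_g_is_cokernel _ (cokernelIsCokernel _) }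
  obtain ⟨f, g, h0, h⟩ := Cyc90.Dev.exists_tensor_shortExact (isFinLocFree_of_isInvertible hP) hS
  exact ⟨_, h, ⟨EGA73.tensUnitLeft P⟩, ⟨Iso.refl _⟩, ⟨Iso.refl _⟩⟩

/-- The cokernel of a section vanishes where the section is a frame. -/
theorem subsingleton_stalk_coker {A : X.Modules} (t : Γ(A, ⊤)) {U : X.Opens} {x : X} (hx : x ∈ U)
    (ht : LineBundle.IsFrame A U (LineBundle.res A le_top t)) :
    Subsingleton ((cokernel (EGA73.unitHom A t)).presheaf.stalk x) := by
  refine QC70.subsingleton_stalk_cokernel _ x fun d => ?_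
  obtain ⟨W, hW, hxW, s, rfl⟩ := Cyc90.Dev.exists_germ_le hx d
  obtain ⟨c, hc⟩ := (ht W hW).2 s
  refine ⟨QC70.germM (Coh.structureModule X) W x hxW (c : Γ(Coh.structureModule X, W)), ?_⟩
  rw [QC70.stalkMapM_germ, EGA73.unitHom_app]
  simp only [LineBundle.res_res] at hc
  rw [← hc]

end Groth.Agent.LC17.BlowLB
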