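import Groth.Agent.LC17.BlowLB.Sections
import Groth.Agent.LC17.BlowLB.CokerTwist
import Groth.Agent.RegImm10.BlowP2.Seq
import Groth.Agent.Curves2.ProjLine
import Groth.Agent.CycCov52.Divisor
import Groth.Agent.An92.Lef.Points

/-!
Linear forms on the plane and their pull backs to the blow up at a point.
-/

set_option autoImplicit false
set_option backward.isDefEq.respectTransparency.types false

noncomputable section

universe u

open CategoryTheory CategoryTheory.Limits AlgebraicGeometry Opposite TopologicalSpace MvPolynomial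
open scoped nonZeroDivisors

namespace Groth.Agent.LC17.BlowLB

open RegImm10.BlowP2.Centre (mI)
open RegImm10 RegImm10.BlowP2
open Var76 (LineBundle.IsFrame LineBundle.res LineBundle.res_res LineBundle.res_smul)

variable {k : Type u} [Field k] [IsAlgClosed k] {p : ↥(P2 k)} {hp : IsClosed ({p} : Set ↥(P2 k))} (C₀ : Centre p hp)

/-- linear forms -/
abbrev Frm (k : Type u) [Field k] : Type u := LefPen.Form 2 k 1

/-- the form of the coordinate -/
def fX (j : Fin 3) : Frm k := ⟨X j, isHomogeneous_X k j⟩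

/-- the lines through the point -/
def fL (i : Fin 2) : Frm k :=
  ⟨X (C₀.l.succAbove i) - C (C₀.c i) * X C₀.l,
    (isHomogeneous_X k _).sub (IsHomogeneous.C_mul (isHomogeneous_X k _) _)⟩

/-- the section of `O(1)` of a form -/
def sG (G : Frm k) : Γ(O k ((1 : ℕ) : ℤ), ⊤) := Twist.globalOf (CohB1.polyGrading 2 k) G

theorem res_sG (G : Frm k) (j : Fin 3) :
    LineBundle.res (O k ((1 : ℕ) : ℤ)) (le_top : chart k j ≤ ⊤) (sG G) =
      (φ j G.1 : Γ(P2 k, chart k j)) •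
        (Var76.Reg.pSec (k := k) j ((1 : ℕ) : ℤ) le_rfl : Γ(O k ((1 : ℕ) : ℤ), chart k j)) := by
  rw [φ_eq_dehom]
  exact Crv77.res_globalOf G j

omit C₀ in
theorem isFrame_chart (j : Fin 3) :
    LineBundle.IsFrame (O k ((1 : ℕ) : ℤ)) (chart k j) (Var76.Reg.pSec (k := k) j ((1 : ℕ) : ℤ) le_rfl) :=
  Var76.Reg.isFrame_pSec j _

theorem φ_fL_self (i : Fin 2) : φ C₀.l (fL C₀ i).1 = evP C₀.l C₀.c (X i) := by
  rw [← evP_sub C₀.l C₀.c]
  simp [fL, sub_X_self, sub_X_succAbove, map_sub, map_mul]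

theorem φ_fX_self (j : Fin 3) : φ j (fX (k := k) j).1 = 1 := by
  simp [fX, φ, ratio_self]

theorem φ_fL (j : Fin 3) (i : Fin 2) :
    φ j (fL C₀ i).1 = ratio j (C₀.l.succAbove i) - cst j (C₀.c i) * ratio j C₀.l := by
  simp [fL, φ]

theorem ideal_eq_span_chart :
    (mI p hp).ideal ⟨chart k C₀.l, Var76.ProjCoord.isAffineOpen_U k 2 C₀.l⟩ =
      Ideal.span {φ C₀.l (fL C₀ 0).1, φ C₀.l (fL C₀ 1).1} := by
  rw [C₀.ideal_eq, MvPolynomial.idealOfVars, Ideal.map_span, φ_fL_self, φ_fL_self]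
  congr 1
  ext z
  simp [Set.mem_image, Fin.exists_fin_two, eq_comm]

theorem exists_notMem (z : ↥(P2 k)) (hz : z ∉ chart k C₀.l) :
    ∃ i : Fin 2, (fL C₀ i).1 ∉ z.asHomogeneousIdeal := by
  have hl : (X C₀.l : MvPolynomial (Fin 3) k) ∈ z.asHomogeneousIdeal := by
    by_contra h
    exact hz h
  obtain ⟨m, hm⟩ := Var76.ProjCoord.exists_mem_U k 2 z
  rcases Fin.eq_self_or_eq_succAbove C₀.l m with rfl | ⟨i, rfl⟩
  · exact absurd hm hz
  refine ⟨i, fun h => hm ?_⟩
  have h2 : (X (C₀.l.succAbove i) : MvPolynomial (Fin 3) k) =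
      (fL C₀ i).1 + C (C₀.c i) * X C₀.l := by simp [fL]
  show (X (C₀.l.succAbove i) : MvPolynomial (Fin 3) k) ∈ z.asHomogeneousIdeal
  rw [h2]
  exact add_mem h (Ideal.mul_mem_left z.asHomogeneousIdeal.toIdeal _ hl)

/-- near every point, the two lines cut out the point -/
theorem exists_nhd (z : ↥(P2 k)) : ∃ (j : Fin 3) (W : (P2 k).Opens) (hj : W ≤ chart k j), z ∈ W ∧
    ∀ (U : (P2 k).Opens) (hU : IsAffineOpen U) (hUW : U ≤ W),
      Ideal.span {(P2 k).presheaf.map (homOfLE (hUW.trans hj)).op (φ j (fL C₀ 0).1),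
        (P2 k).presheaf.map (homOfLE (hUW.trans hj)).op (φ j (fL C₀ 1).1)} = (mI p hp).ideal ⟨U, hU⟩ := by
  by_cases hz : z ∈ chart k C₀.l
  · refine ⟨C₀.l, chart k C₀.l, le_rfl, hz, fun U hU hUW => ?_⟩
    rw [← (mI p hp).map_ideal (U := ⟨U, hU⟩) (V := ⟨chart k C₀.l, Var76.ProjCoord.isAffineOpen_U k 2 C₀.l⟩) hUW,
      ideal_eq_span_chart, Ideal.map_span, Set.image_pair]
    rfl
  · obtain ⟨i, hi⟩ := exists_notMem C₀ z hz
    obtain ⟨j, hj⟩ := Var76.ProjCoord.exists_mem_U k 2 z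
    let f := φ j (fL C₀ i).1
    have hzf : z ∈ (P2 k).basicOpen f := by
      show z ∈ (P2 k).basicOpen (φ j (fL C₀ i).1)
      rw [φ_eq_dehom]
      exact (An92.Lef.mem_basicOpen_dehom (fL C₀ i) j hj).2 hi
    have hzp : z ≠ p := fun e => hz (e ▸ C₀.mem)
    refine ⟨j, (P2 k).basicOpen f ⊓ ⟨({p} : Set ↥(P2 k))ᶜ, hp.isOpen_compl⟩,
      inf_le_left.trans ((P2 k).basicOpen_le f), ⟨hzf, hzp⟩, fun U hU hUW => ?_⟩
    rw [CycCov52.ideal_eq_top_of_disjoint (mI p hp) ⟨U, hU⟩ fun w hw h =>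
      (hUW hw).2 ((Scheme.IdealSheafData.coe_support_vanishingIdeal ⟨{p}, hp⟩).le h)]
    have hu : IsUnit ((P2 k).presheaf.map (homOfLE (hUW.trans (inf_le_left.trans
        ((P2 k).basicOpen_le f)) : U ≤ chart k j)).op f) := by
      have h1 := (RingedSpace.isUnit_res_basicOpen _ f).map
        ((P2 k).presheaf.map (homOfLE (hUW.trans inf_le_left)).op).hom
      change IsUnit (((P2 k).presheaf.map (homOfLE ((P2 k).basicOpen_le f)).op ≫
        (P2 k).presheaf.map (homOfLE (hUW.trans inf_le_left)).op) f) at h1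
      rwa [← Functor.map_comp] at h1
    fin_cases i
    · exact Ideal.eq_top_of_isUnit_mem _ (Ideal.subset_span (Or.inl rfl)) hu
    · exact Ideal.eq_top_of_isUnit_mem _ (Ideal.subset_span (Or.inr rfl)) hu

end Groth.Agent.LC17.BlowLB
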