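import Groth.Agent.RegImm10.BlowCech.TwistPull
import Groth.Agent.RegImm10.BlowCech.Locus
import Groth.Agent.Div89.BlowUp
import Groth.Agent.EGA73.Invertible
import Groth.Agent.Amp73.TensorFrame

/-!
Sections of the products of pulled back invertible modules with the exceptional ideal.
-/

set_option autoImplicit false
set_option backward.isDefEq.respectTransparency.types false

noncomputable section

universe u

open CategoryTheory CategoryTheory.Limits AlgebraicGeometry Opposite TopologicalSpace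
open scoped nonZeroDivisors

namespace Groth.Agent.LC17.BlowLB

open RegImm10 RegImm10.BlowCech
open Var76 (LineBundle.IsFrame LineBundle.res LineBundle.res_res LineBundle.res_smul)

variable {X : Scheme.{u}}

/-- A section whose coefficients in frames are locally regular gives an injection of `O`. -/
theorem mono_unitHom_of_regular (M : X.Modules) (z : Γ(M, ⊤))
    (h : ∀ x : X, ∃ (U : X.Opens) (e : Γ(M, U)) (c : Γ(X, U)) (hx : x ∈ U), LineBundle.IsFrame M U e ∧
      LineBundle.res M le_top z = c • e ∧ X.presheaf.germ U x hx c ∈ (X.presheaf.stalk x)⁰) :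
    Mono (EGA73.unitHom M z) := by
  refine QC70.mono_of_injective_stalkMapM _ fun x => ?_
  obtain ⟨U, e, c, hx, he, hc, hreg⟩ := h x
  intro a a' haa
  obtain ⟨W, hxW, f, rfl⟩ := QC70.germM_exist a
  obtain ⟨W', hxW', f', rfl⟩ := QC70.germM_exist a'
  rw [QC70.stalkMapM_germ, QC70.stalkMapM_germ] at haa
  obtain ⟨T, hxT, i₁, i₂, heq⟩ := TopCat.Presheaf.germ_eq M.presheaf x hxW hxW' _ _ haa
  change LineBundle.res M i₁.le _ = LineBundle.res M i₂.le _ at heq
  rw [← Mero90.app_res, ← Mero90.app_res, EGA73.unitHom_app, EGA73.unitHom_app] at heq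
  let V : X.Opens := T ⊓ U
  have hxV : x ∈ V := ⟨hxT, hx⟩
  have h2 := congrArg (LineBundle.res M (inf_le_left : V ≤ T)) heq
  change LineBundle.res M _ (_ • LineBundle.res M _ z) = LineBundle.res M _ (_ • LineBundle.res M _ z) at h2
  rw [LineBundle.res_smul, LineBundle.res_smul, LineBundle.res_res,
    ← LineBundle.res_res M (le_top : U ≤ ⊤) (inf_le_right : V ≤ U), hc, LineBundle.res_smul, smul_smul, smul_smul] at h2
  have h3 := congrArg (X.presheaf.germ V x hxV) ((he V inf_le_right).1 h2)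
  rw [map_mul, map_mul, TopCat.Presheaf.germ_res_apply X.presheaf (homOfLE (inf_le_right : V ≤ U)) x hxV c] at h3
  have h4 := (mul_cancel_right_mem_nonZeroDivisors hreg).1 h3
  obtain ⟨R, hxR, j₁, j₂, h5⟩ := TopCat.Presheaf.germ_eq X.presheaf x hxV hxV _ _ h4
  have hR : R ≤ T := j₁.le.trans inf_le_left
  have h6 : LineBundle.res (Coh.structureModule X) (hR.trans i₁.le) f =
      LineBundle.res (Coh.structureModule X) (hR.trans i₂.le) f' := by
    rw [← LineBundle.res_res (Coh.structureModule X) i₁.le hR f,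
      ← LineBundle.res_res (Coh.structureModule X) i₂.le hR f',
      ← LineBundle.res_res (Coh.structureModule X) (inf_le_left : V ≤ T) j₁.le,
      ← LineBundle.res_res (Coh.structureModule X) (inf_le_left : V ≤ T) j₁.le]
    exact h5
  exact ((QC70.germM_res (hR.trans i₁.le) hxR f).symm.trans (congrArg (QC70.germM _ R x hxR) h6)).trans
    (QC70.germM_res (hR.trans i₂.le) hxR f')

variable {X' : Scheme.{u}} {b : X' ⟶ X} {I : X.IdealSheafData}

theorem regular_app (hb : BlowUp.IsBlowUp b I) {U : X.Opens} {c : Γ(X, U)} (hc : c ∈ Mero.regSub X U)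
    {x : X'} (hx : x ∈ b ⁻¹ᵁ U) :
    X'.presheaf.germ (b ⁻¹ᵁ U) x hx (b.app U c) ∈ (X'.presheaf.stalk x)⁰ :=
  Div89.app_mem_regSub_blowUp hb U c hc ⟨x, hx⟩

theorem res_pullS_top (M : X.Modules) (z : Γ(M, ⊤)) (U : X.Opens) :
    LineBundle.res ((Scheme.Modules.pullback b).obj M) (le_top : b ⁻¹ᵁ U ≤ ⊤) (Amp73.pullS b M ⊤ z) =
      Amp73.pullS b M U (LineBundle.res M le_top z) :=
  Amp73.res_pullS b M le_top z

/-- The pull back of a regular section is regular. -/
theorem mono_unitHom_pullS (hb : BlowUp.IsBlowUp b I) (M : X.Modules) (z : Γ(M, ⊤))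
    (h : ∀ y : X, ∃ (U : X.Opens) (e : Γ(M, U)) (c : Γ(X, U)), y ∈ U ∧ LineBundle.IsFrame M U e ∧
      LineBundle.res M le_top z = c • e ∧ c ∈ Mero.regSub X U) :
    Mono (EGA73.unitHom ((Scheme.Modules.pullback b).obj M) (Amp73.pullS b M ⊤ z)) := by
  refine mono_unitHom_of_regular _ _ fun x => ?_
  obtain ⟨U, e, c, hy, he, hc, hreg⟩ := h (b x)
  exact ⟨b ⁻¹ᵁ U, Amp73.pullS b M U e, b.app U c, hy, Props58.PullTensor.isFrame_pullS b he,
    by rw [res_pullS_top, hc, Amp73.pullS_smul], regular_app hb hreg hy⟩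

variable {M : X.Modules}

/-- `b^*M ⊗ J → b^*M` is injective on sections. -/
theorem pullMulι_app_injective (hb : BlowUp.IsBlowUp b I) {N : ℕ} (hI : HasGens I N) (hM : PicF.IsInvertible M)
    (n : ℕ) (P : X'.Opens) : Function.Injective ((pullMulι b I M n).app P) := by
  intro s s' hss
  refine Var76.ZeroScheme.eq_of_locally _ s s' fun x hx => ?_
  obtain ⟨U, hxU, e, he⟩ := Mero90.exists_frame' hM (b x)
  obtain ⟨S, hxS, hSU, -⟩ := exists_cover hb hI (b x) U hxU
  obtain ⟨i, hi⟩ := exists_mem_chart S.hb S.hU S.span_eq S.C (show x ∈ b ⁻¹ᵁ S.U from hxS)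
  refine ⟨(S.C i).W ⊓ P, inf_le_right, ⟨hi, hx⟩,
    S.pullMulι_injective (he.res hSU) n i inf_le_left ?_⟩
  rw [Mero90.app_res, Mero90.app_res, hss]

/-- Sections vanishing along the centre lift. -/
theorem exists_lift (hb : BlowUp.IsBlowUp b I) {N : ℕ} (hI : HasGens I N) (hM : PicF.IsInvertible M)
    (z : Γ(M, ⊤)) (n : ℕ) (h : ∀ y : X, ∃ (S : Cover b I) (e : Γ(M, S.U)) (c : Γ(X, S.U)), y ∈ S.U ∧
      LineBundle.IsFrame M S.U e ∧ LineBundle.res M le_top z = c • e ∧ c ∈ I.ideal ⟨S.U, S.hU⟩ ^ n) :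
    ∃ t : Γ(pullMul b I M n, ⊤), (pullMulι b I M n).app ⊤ t = Amp73.pullS b M ⊤ z := by
  choose S e c hy he hc hmem using h
  choose s hs using fun y => (S y).exists_image (he y) n (hmem y)
  have hs' : ∀ y, (pullMulι b I M n).app (b ⁻¹ᵁ (S y).U) (s y) =
      LineBundle.res _ le_top (Amp73.pullS b M ⊤ z) := fun y => by
    rw [hs, res_pullS_top, hc, Amp73.pullS_smul]
  have hcompat : TopCat.Presheaf.IsCompatible
      (⟨(pullMul b I M n).presheaf, (pullMul b I M n).isSheaf⟩ : TopCat.Sheaf Ab X').obj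
      (fun y => b ⁻¹ᵁ (S y).U) s := fun y y' => by
    refine pullMulι_app_injective hb hI hM n _ ?_
    show (pullMulι b I M n).app _ (LineBundle.res _ inf_le_left _) =
      (pullMulι b I M n).app _ (LineBundle.res _ inf_le_right _)
    rw [Mero90.app_res, Mero90.app_res, hs', hs', LineBundle.res_res, LineBundle.res_res]
  obtain ⟨t, ht, -⟩ := TopCat.Sheaf.existsUnique_gluing'
    (⟨(pullMul b I M n).presheaf, (pullMul b I M n).isSheaf⟩ : TopCat.Sheaf Ab X')
    (fun y => b ⁻¹ᵁ (S y).U) ⊤ (fun y => homOfLE le_top)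
    (fun x _ => Opens.mem_iSup.2 ⟨b x, hy (b x)⟩) s hcompat
  refine ⟨t, Var76.ZeroScheme.eq_of_locally _ _ _ fun x _ => ⟨b ⁻¹ᵁ (S (b x)).U, le_top, hy (b x), ?_⟩⟩
  rw [← Mero90.app_res, show LineBundle.res (pullMul b I M n) le_top t = s (b x) from ht (b x), hs']

theorem isFrame_smul {F : X'.Modules} {W : X'.Opens} {f : Γ(F, W)} (hf : LineBundle.IsFrame F W f)
    (d : Γ(X', W)) {D : X'.Opens} (hD : D ≤ W) (hd : IsUnit (X'.presheaf.map (homOfLE hD).op d)) :
    LineBundle.IsFrame F D (LineBundle.res F hD (d • f)) := by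
  intro V hV
  rw [LineBundle.res_res, LineBundle.res_smul]
  have hu : IsUnit (X'.presheaf.map (homOfLE (hV.trans hD)).op d) := by
    have := hd.map (X'.presheaf.map (homOfLE hV).op).hom
    rwa [← ConcreteCategory.comp_apply, ← Functor.map_comp] at this
  have : (fun r : Γ(X', V) => r • ((X'.presheaf.map (homOfLE (hV.trans hD)).op d) •
      LineBundle.res F (hV.trans hD) f)) =
      (fun r => r • LineBundle.res F (hV.trans hD) f) ∘ fun r => r * X'.presheaf.map (homOfLE (hV.trans hD)).op d := by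
    funext r
    exact smul_smul _ _ _
  show Function.Bijective fun r : Γ(X', V) => r • _
  rw [this]
  exact (hf V (hV.trans hD)).comp (hu.unit.mulRight_bijective)

/-- Two sections generating the centre have no common zero on the blow up. -/
theorem exists_frame_of_pair (S : Cover b I) {e : Γ(M, S.U)} (he : LineBundle.IsFrame M S.U e)
    {z w : Γ(M, ⊤)} {c d : Γ(X, S.U)} (hz : LineBundle.res M le_top z = c • e)
    (hw : LineBundle.res M le_top w = d • e) (hcd : Ideal.span {c, d} = I.ideal ⟨S.U, S.hU⟩)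
    {t t' : Γ(pullMul b I M 1, ⊤)} (ht : (pullMulι b I M 1).app ⊤ t = Amp73.pullS b M ⊤ z)
    (ht' : (pullMulι b I M 1).app ⊤ t' = Amp73.pullS b M ⊤ w) {x : X'} (hx : x ∈ b ⁻¹ᵁ S.U) :
    ∃ U : X'.Opens, x ∈ U ∧ (LineBundle.IsFrame (pullMul b I M 1) U (LineBundle.res _ le_top t) ∨
      LineBundle.IsFrame (pullMul b I M 1) U (LineBundle.res _ le_top t')) := by
  obtain ⟨i, hi⟩ := exists_mem_chart S.hb S.hU S.span_eq S.C hx
  let W := (S.C i).W
  have hfr : LineBundle.IsFrame (pullMul b I M 1) W (S.ePull e 1 i) :=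
    Amp73.isFrame_tm ((S.frame_pull he).res (S.C i).le) (S.frame_eI 1 i)
  have hres0 : LineBundle.res (pullMul b I M 1) (le_refl W) (S.ePull e 1 i) = S.ePull e 1 i := by
    simp [LineBundle.res]
  have key : ∀ (v : Γ(M, ⊤)) (g : Γ(X, S.U)) (s : Γ(pullMul b I M 1, ⊤)),
      LineBundle.res M le_top v = g • e → (pullMulι b I M 1).app ⊤ s = Amp73.pullS b M ⊤ v →
      ∃ r : Γ(X', W), LineBundle.res _ le_top s = r • S.ePull e 1 i ∧
        r * pb b (S.C i).le (S.a i) = pb b (S.C i).le g := by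
    intro v g s hv hs
    obtain ⟨r, hr⟩ := (hfr W le_rfl).2 (LineBundle.res _ le_top s)
    dsimp only at hr
    rw [hres0] at hr
    refine ⟨r, hr.symm, ((S.frame_pull he) W (S.C i).le).1 ?_⟩
    have h1 := congrArg ((pullMulι b I M 1).app W) hr
    have h2 := S.pullMulι_ePull (e := e) 1 i (le_refl W)
    rw [hres0, pow_one] at h2
    rw [Scheme.Modules.Hom.app_smul, h2, Mero90.app_res, hs,
      ← LineBundle.res_res _ (le_top : b ⁻¹ᵁ S.U ≤ ⊤) (S.C i).le, res_pullS_top, hv, Amp73.pullS_smul,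
      LineBundle.res_smul, ← mul_smul] at h1
    exact h1
  obtain ⟨r, hr, hrc⟩ := key z c t hz ht
  obtain ⟨r', hr', hrd⟩ := key w d t' hw ht'
  obtain ⟨α, β, hab⟩ := Ideal.mem_span_pair.1 (hcd.ge (S.mem_ideal i))
  have hone : pb b (S.C i).le α * r + pb b (S.C i).le β * r' = 1 := by
    refine (mul_cancel_right_mem_nonZeroDivisors (S.C i).nzd).1 ?_
    rw [add_mul, mul_assoc, mul_assoc, hrc, hrd, one_mul, ← map_mul, ← map_mul, ← map_add, hab]
  have hor : IsUnit (X'.presheaf.germ W x hi r) ∨ IsUnit (X'.presheaf.germ W x hi r') := by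
    have h1 := congrArg (X'.presheaf.germ W x hi) hone
    rw [map_add, map_mul, map_mul, map_one] at h1
    rcases IsLocalRing.isUnit_or_isUnit_of_add_one h1 with h | h
    · exact Or.inl (isUnit_of_mul_isUnit_right h)
    · exact Or.inr (isUnit_of_mul_isUnit_right h)
  rcases hor with h | h
  · refine ⟨X'.basicOpen r, (Scheme.mem_basicOpen X' r x hi).2 h, Or.inl ?_⟩
    rw [← LineBundle.res_res _ (le_top : W ≤ ⊤) (X'.basicOpen_le r), hr]
    exact isFrame_smul hfr r _ (RingedSpace.isUnit_res_basicOpen _ r)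
  · refine ⟨X'.basicOpen r', (Scheme.mem_basicOpen X' r' x hi).2 h, Or.inr ?_⟩
    rw [← LineBundle.res_res _ (le_top : W ≤ ⊤) (X'.basicOpen_le r'), hr']
    exact isFrame_smul hfr r' _ (RingedSpace.isUnit_res_basicOpen _ r')

end Groth.Agent.LC17.BlowLB
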