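import Groth.Agent.LC17.BlowLB.Forms
import Groth.Agent.RegImm10.BlowP2.Main
import Groth.Agent.Inv57.OfTensor
import Groth.Agent.Amp73.Powers
import Groth.Agent.Var76.RegTools

/-!
The short exact sequences of line bundles `p H + b E` on the plane blown up at a point.
-/

set_option autoImplicit false
set_option backward.isDefEq.respectTransparency.types false

noncomputable section

universe u

open CategoryTheory CategoryTheory.Limits AlgebraicGeometry Opposite TopologicalSpace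
open scoped nonZeroDivisors

namespace Groth.Agent.LC17.BlowLB

open RegImm10.BlowP2.Centre (mI)
open RegImm10 RegImm10.BlowP2 EGA73
open Var76 (LineBundle.IsFrame LineBundle.res LineBundle.res_res LineBundle.res_smul)

section General

variable {X : Scheme.{u}}

/-- inclusion of an ideal is surjective on stalks off its support -/
theorem surjective_stalk_idealModι (J : X.IdealSheafData) {x : X} (hx : x ∉ J.support) :
    Function.Surjective (QC70.stalkMapM (ClSub.idealModι J) x) := by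
  intro d
  obtain ⟨V, hxV, a, rfl⟩ := QC70.germM_exist d
  obtain ⟨W, hW, hxW, hWV⟩ := exists_isAffineOpen_mem_and_subset
    (show x ∈ V ⊓ ⟨(J.support : Set X)ᶜ, J.support.isClosed.isOpen_compl⟩ from ⟨hxV, hx⟩)
  have htop := CycCov52.ideal_eq_top_of_disjoint J ⟨W, hW⟩ fun z hz => (hWV hz).2
  obtain ⟨j, hj⟩ := Curves2.exists_idealSect_of_mem J ⟨W, hW⟩
    (show QC70.resO X (fun z hz => (hWV hz).1 : W ≤ V) (a : Γ(X, V)) ∈ J.ideal ⟨W, hW⟩ from htop ▸ trivial)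
  refine ⟨QC70.germM _ W x hxW j, ?_⟩
  rw [QC70.stalkMapM_germ, ← QC70.germM_res (fun z hz => (hWV hz).1 : W ≤ V) hxW a]
  exact congrArg (QC70.germM (Coh.structureModule X) W x hxW) hj

theorem isIso_idealModι_top (J : X.IdealSheafData) (h : J.support = ⊥) : IsIso (ClSub.idealModι J) := by
  haveI : Mono (ClSub.idealModι J) := show Mono (kernel.ι _) from inferInstance
  refine QC70.isIso_of_bijective_stalkMapM _ fun x =>
    ⟨QC70.injective_stalkMapM_of_mono _ x, surjective_stalk_idealModι J ?_⟩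
  rw [h]
  exact fun hx => hx.elim

theorem surjective_twMap {F F' : X.Modules} (g : F ⟶ F') {L : X.Modules} (hL : PicF.IsInvertible L) {x : X}
    (h : Function.Surjective (QC70.stalkMapM g x)) :
    Function.Surjective (QC70.stalkMapM (Cyc90.Dev.twMap g L) x) := by
  obtain ⟨U, hx, e, he⟩ := Mero90.exists_frame' hL x
  intro z
  obtain ⟨d, rfl⟩ := (Cyc90.Dev.bijective_tmLin e hx he).2 z
  obtain ⟨c, rfl⟩ := h d
  exact ⟨Cyc90.Dev.tmLin e hx c, Cyc90.Dev.twMap_tmLin e hx g c⟩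

theorem mono_twMap {F F' : X.Modules} (g : F ⟶ F') [Mono g] {L : X.Modules} (hL : PicF.IsInvertible L) :
    Mono (Cyc90.Dev.twMap g L) := by
  refine QC70.mono_of_injective_stalkMapM _ fun x => ?_
  obtain ⟨U, hx, e, he⟩ := Mero90.exists_frame' hL x
  intro z z' hzz
  obtain ⟨d, rfl⟩ := (Cyc90.Dev.bijective_tmLin e hx he).2 z
  obtain ⟨d', rfl⟩ := (Cyc90.Dev.bijective_tmLin e hx he).2 z'
  rw [Cyc90.Dev.twMap_tmLin, Cyc90.Dev.twMap_tmLin] at hzz
  rw [QC70.injective_stalkMapM_of_mono g x ((Cyc90.Dev.bijective_tmLin e hx he).1 hzz)]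

/-- the canonical section of the inverse of an ideal -/
theorem exists_section {L : X.Modules} {J : X.IdealSheafData} (hL : ClSub.IsInverseOf L (ClSub.idealMod J)) :
    ∃ s : Coh.structureModule X ⟶ L, Mono s ∧ ∀ x, x ∉ J.support → Subsingleton ((cokernel s).presheaf.stalk x) := by
  obtain ⟨e⟩ := hL
  have hinv := Inv57.isInvertible_of_tensorMod_iso e
  haveI : Mono (ClSub.idealModι J) := show Mono (kernel.ι _) from inferInstance
  let m := Cyc90.Dev.twMap (ClSub.idealModι J) L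
  haveI : Mono m := mono_twMap _ hinv
  refine ⟨(e.inv ≫ (tensComm L (ClSub.idealMod J)).hom) ≫ m ≫ (tensUnitLeft L).hom, inferInstance, fun x hx => ?_⟩
  refine QC70.subsingleton_stalk_cokernel _ x fun d => ?_
  have hiso : ∀ {A B : X.Modules} (f : A ⟶ B) [IsIso f], Function.Surjective (QC70.stalkMapM f x) :=
    fun f _ => QC70.surjective_stalkMapM_of_epi f x
  obtain ⟨d₁, rfl⟩ := hiso (tensUnitLeft L).hom d
  obtain ⟨d₂, rfl⟩ := surjective_twMap (ClSub.idealModι J) hinv (surjective_stalk_idealModι J hx) d₁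
  obtain ⟨d₃, rfl⟩ := hiso (e.inv ≫ (tensComm L (ClSub.idealMod J)).hom) d₂
  exact ⟨d₃, by rw [QC70.stalkMapM_comp, QC70.stalkMapM_comp]⟩

end General

variable {k : Type u} [Field k] [IsAlgClosed k] {p : ↥(P2 k)} {hp : IsClosed ({p} : Set ↥(P2 k))}
  {X : Scheme.{u}} [X.Over (Spec (CommRingCat.of k))] (σ : X ⟶ P2 k) (L : X.Modules)

/-- `pull back of O(a)` -/
abbrev P (a : ℤ) : X.Modules := (Scheme.Modules.pullback σ).obj (Twist.twistProjSpace 2 k a)

/-- `a H + b E` -/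
abbrev Mb (a : ℤ) (b : ℕ) : X.Modules := CohB1.tensorMod (P σ a) (CohB1.tensorPow L b)

theorem isInvertible_P (a : ℤ) : PicF.IsInvertible (P σ a) :=
  Amp73.isInvertible_pullback σ (isInvertible_O a)

theorem nonempty_P_add {a a' c : ℤ} (h : a + a' = c) :
    Nonempty (CohB1.tensorMod (P σ a) (P σ a') ≅ P σ c) := by
  obtain ⟨e⟩ := Var76.Reg.nonempty_twist_add (n := 2) (A := k) h
  haveI := Amp73.isIso_pullTensHom (f := σ) (isInvertible_O (k := k) a) (isInvertible_O (k := k) a')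
  exact ⟨(asIso (Amp73.pullTensHom σ (O k a) (O k a'))).symm ≪≫ (Scheme.Modules.pullback σ).mapIso e⟩

theorem sG_regular (C₀ : Centre p hp) (G : Frm k) (hG : φ C₀.l G.1 ≠ 0) (y : ↥(P2 k)) :
    ∃ (U : (P2 k).Opens) (e : Γ(O k ((1 : ℕ) : ℤ), U)) (c : Γ(P2 k, U)), y ∈ U ∧
      LineBundle.IsFrame (O k ((1 : ℕ) : ℤ)) U e ∧ LineBundle.res _ le_top (sG G) = c • e ∧
      c ∈ Mero.regSub (P2 k) U := by
  haveI := Curves2.ProjLine.isIntegral (k := k) 2
  obtain ⟨j, hj⟩ := Var76.ProjCoord.exists_mem_U k 2 y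
  refine ⟨chart k j, _, φ j G.1, hj, isFrame_chart j, res_sG G j, fun x => mem_nonZeroDivisors_of_ne_zero fun h0 => ?_⟩
  haveI : Nonempty (chart k j) := ⟨x⟩
  haveI : Nonempty (chart k C₀.l) := ⟨⟨p, C₀.mem⟩⟩
  have hzero : φ j G.1 = 0 := by
    refine (injective_iff_map_eq_zero _).1 (germ_injective_of_isIntegral (P2 k) x.1 x.2) _ h0
  let V := chart k j ⊓ chart k C₀.l
  have hne : ((chart k j : Set (P2 k)) ∩ (chart k C₀.l : Set (P2 k))).Nonempty :=
    nonempty_preirreducible_inter (chart k j).2 (chart k C₀.l).2 ⟨x.1, x.2⟩ ⟨p, C₀.mem⟩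
  obtain ⟨z, hz⟩ := hne
  have h1 := congrArg (LineBundle.res (O k ((1 : ℕ) : ℤ)) (inf_le_left : V ≤ chart k j)) (res_sG G j)
  have h2 := congrArg (LineBundle.res (O k ((1 : ℕ) : ℤ)) (inf_le_right : V ≤ chart k C₀.l)) (res_sG G C₀.l)
  rw [LineBundle.res_res, LineBundle.res_smul] at h1 h2
  rw [hzero, map_zero, zero_smul] at h1
  have h3 : (P2 k).presheaf.map (homOfLE (inf_le_right : V ≤ chart k C₀.l)).op (φ C₀.l G.1) = 0 :=
    ((isFrame_chart (k := k) C₀.l) V inf_le_right).1 (by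
      show _ • LineBundle.res _ _ _ = (0 : Γ(P2 k, V)) • LineBundle.res _ _ _
      rw [← h2, h1, zero_smul])
  refine hG ((injective_iff_map_eq_zero _).1 (germ_injective_of_isIntegral (P2 k) z hz.2) _ ?_)
  rw [← TopCat.Presheaf.germ_res_apply (P2 k).presheaf (homOfLE (inf_le_right : V ≤ chart k C₀.l)) z hz, h3, map_zero]

theorem φ_fL_ne_zero (C₀ : Centre p hp) (i : Fin 2) : φ C₀.l (fL C₀ i).1 ≠ 0 := fun h => by
  rw [φ_fL_self] at h
  exact MvPolynomial.X_ne_zero i (C₀.bij.1 (h.trans (map_zero _).symm))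

variable (hσ : BlowUp.IsBlowUp σ (mI p hp))
  (hL : ClSub.IsInverseOf L (ClSub.idealMod (BlowUp.exceptional σ (mI p hp))))

include hL in
theorem isInvertible_Mb (a : ℤ) (b : ℕ) : PicF.IsInvertible (Mb σ L a b) :=
  isInvertible_tensorMod (isInvertible_P σ a)
    (isInvertible_tensorPow (Inv57.isInvertible_of_tensorMod_iso hL.some) b)

/-- `H - E` -/
abbrev Fb (p : ↥(P2 k)) (hp : IsClosed ({p} : Set ↥(P2 k))) : X.Modules :=
  BlowCech.pullMul σ (mI p hp) (O k ((1 : ℕ) : ℤ)) 1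

omit hσ hL in
theorem nonempty_pullMul_zero (a : ℤ) :
    Nonempty (Mb σ L a 0 ≅ BlowCech.pullMul σ (mI p hp) (O k a) 0) := by
  haveI := isIso_idealModι_top ((BlowUp.exceptional σ (mI p hp)) ^ 0) (by
    rw [pow_zero, Scheme.IdealSheafData.one_eq_top, Scheme.IdealSheafData.support_top])
  exact ⟨tensIso (Iso.refl _) (asIso (ClSub.idealModι _)).symm⟩

omit hσ hL in
theorem nonempty_twist_neg (n : ℤ) :
    Nonempty (CohB1.tensorMod (Fb σ p hp) (Mb σ L n 0) ≅ BlowCech.pullMul σ (mI p hp) (O k (n + 1)) 1) := by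
  obtain ⟨e⟩ := nonempty_P_add σ (show ((1 : ℕ) : ℤ) + n = n + 1 by push_cast; ring)
  exact ⟨Amp73.tensMiddle _ _ _ _ ≪≫ tensIso e (tensUnitRight _)⟩

include hL in
omit hσ in
theorem nonempty_twist_step (a : ℤ) (b : ℕ) :
    Nonempty (CohB1.tensorMod (Fb σ p hp) (Mb σ L a (b + 1)) ≅ Mb σ L (a + 1) b) := by
  obtain ⟨e⟩ := nonempty_P_add σ (show ((1 : ℕ) : ℤ) + a = a + 1 by push_cast; ring)
  obtain ⟨eL⟩ := hL
  refine ⟨Amp73.tensMiddle _ _ _ _ ≪≫ tensIso e (tensComm _ _ ≪≫ tensAssoc' _ _ _ ≪≫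
    tensIso (Iso.refl _) (tensIso (Iso.refl L) (eqToIso (congrArg ClSub.idealMod (pow_one _))) ≪≫ eL) ≪≫
      tensUnitRight _)⟩

include hσ hL in
/-- the sequence of a line through the point -/
theorem exists_line_seq :
    ∃ K : X.Modules, ∀ (a : ℤ) (b : ℕ), ∃ S : ShortComplex X.Modules, S.ShortExact ∧
      Nonempty (S.X₁ ≅ Mb σ L a b) ∧ Nonempty (S.X₂ ≅ CohB1.tensorMod (Fb σ p hp) (Mb σ L a b)) ∧
      Nonempty (S.X₃ ≅ CohB1.tensorMod K (Mb σ L (a + b) 0)) := by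
  obtain ⟨C₀⟩ := nonempty_centre p hp
  have hI := hasGens_two p hp
  have hM := isInvertible_O (k := k) ((1 : ℕ) : ℤ)
  have hcov : ∀ y : ↥(P2 k), ∃ (S : BlowCech.Cover σ (mI p hp)) (e : Γ(O k ((1 : ℕ) : ℤ), S.U))
      (c d : Γ(P2 k, S.U)), y ∈ S.U ∧ LineBundle.IsFrame (O k ((1 : ℕ) : ℤ)) S.U e ∧
      LineBundle.res _ le_top (sG (fL C₀ 0)) = c • e ∧ LineBundle.res _ le_top (sG (fL C₀ 1)) = d • e ∧
      Ideal.span {c, d} = (mI p hp).ideal ⟨S.U, S.hU⟩ := by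
    intro y
    obtain ⟨j, W, hj, hyW, hW⟩ := exists_nhd C₀ y
    obtain ⟨S, hyS, hSW, -⟩ := BlowCech.exists_cover hσ hI y W hyW
    refine ⟨S, _, _, _, hyS, (isFrame_chart j).res (hSW.trans hj), ?_, ?_, hW S.U S.hU hSW⟩
    all_goals
      rw [← LineBundle.res_res _ (le_top : chart k j ≤ ⊤) (hSW.trans hj), res_sG, LineBundle.res_smul]
  choose S e c d hyS he hc hd hspan using hcov
  obtain ⟨t, ht⟩ := exists_lift hσ hI hM (sG (fL C₀ 0)) 1 fun y =>
    ⟨S y, e y, c y, hyS y, he y, hc y, by rw [pow_one, ← hspan y]; exact Ideal.subset_span (Or.inl rfl)⟩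
  obtain ⟨t', ht'⟩ := exists_lift hσ hI hM (sG (fL C₀ 1)) 1 fun y =>
    ⟨S y, e y, d y, hyS y, he y, hd y, by rw [pow_one, ← hspan y]; exact Ideal.subset_span (Or.inr rfl)⟩
  have hFinv : PicF.IsInvertible (Fb σ p hp) := isInvertible_tensorMod (isInvertible_P σ _)
    ((Curves2.isInvertible_idealMod_iff _).2 (by rw [pow_one]; exact hσ.1))
  haveI : Mono (EGA73.unitHom (Fb σ p hp) t) := by
    haveI : Mono (EGA73.unitHom (Fb σ p hp) t ≫ BlowCech.pullMulι σ (mI p hp) (O k ((1 : ℕ) : ℤ)) 1) := by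
      have hcomp : EGA73.unitHom (Fb σ p hp) t ≫ BlowCech.pullMulι σ (mI p hp) (O k ((1 : ℕ) : ℤ)) 1 =
          EGA73.unitHom _ (Amp73.pullS σ (O k ((1 : ℕ) : ℤ)) ⊤ (sG (fL C₀ 0))) := by
        ext U a
        rw [Scheme.Modules.Hom.comp_app]
        show (BlowCech.pullMulι σ (mI p hp) (O k ((1 : ℕ) : ℤ)) 1).app U ((EGA73.unitHom (Fb σ p hp) t).app U a) = _
        rw [EGA73.unitHom_app, EGA73.unitHom_app, Scheme.Modules.Hom.app_smul, Mero90.app_res, ht]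
      rw [hcomp]
      exact mono_unitHom_pullS hσ _ _ (sG_regular C₀ _ (φ_fL_ne_zero C₀ 0))
    exact mono_of_mono _ (BlowCech.pullMulι σ (mI p hp) (O k ((1 : ℕ) : ℤ)) 1)
  have hiso : ∀ x : X, Subsingleton ((cokernel (EGA73.unitHom (Fb σ p hp) t)).presheaf.stalk x) ∨
      ∃ U : X.Opens, x ∈ U ∧ LineBundle.IsFrame (Fb σ p hp) U (LineBundle.res _ le_top t') := fun x => by
    obtain ⟨U, hxU, hU | hU⟩ := exists_frame_of_pair (S (σ x)) (he (σ x)) (hc (σ x)) (hd (σ x)) (hspan (σ x)) ht ht'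
      (x := x) (hyS (σ x))
    · exact Or.inl (subsingleton_stalk_coker t hxU hU)
    · exact Or.inr ⟨U, hxU, hU⟩
  let K := cokernel (EGA73.unitHom (Fb σ p hp) t)
  have hinv : ∀ (b : ℕ) (a : ℤ),
      Nonempty (CohB1.tensorMod K (Mb σ L a b) ≅ CohB1.tensorMod K (Mb σ L (a + b) 0)) := by
    intro b
    induction b with
    | zero => exact fun a => by rw [Nat.cast_zero, add_zero]; exact ⟨Iso.refl _⟩
    | succ b ih =>
      intro a
      obtain ⟨e₁⟩ := nonempty_twist_iso K hFinv t' hiso (Mb σ L a (b + 1))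
      obtain ⟨e₂⟩ := nonempty_twist_step σ L (p := p) (hp := hp) hL a b
      obtain ⟨e₃⟩ := ih (a + 1)
      rw [show a + ((b + 1 : ℕ) : ℤ) = a + 1 + b by push_cast; ring]
      exact ⟨e₁.symm ≪≫ tensIso (Iso.refl K) e₂ ≪≫ e₃⟩
  refine ⟨K, fun a b => ?_⟩
  obtain ⟨T, hT, ⟨f₁⟩, ⟨f₂⟩, ⟨f₃⟩⟩ := exists_seq (EGA73.unitHom (Fb σ p hp) t) (isInvertible_Mb σ L hL a b)
  obtain ⟨g⟩ := hinv b a
  exact ⟨T, hT, ⟨f₁⟩, ⟨f₂⟩, ⟨f₃ ≪≫ g⟩⟩

include hσ hL in
/-- the sequence of the exceptional line -/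
theorem exists_exc_seq :
    ∃ K : X.Modules, (∀ (a a' : ℤ) (b : ℕ),
        Nonempty (CohB1.tensorMod K (Mb σ L a b) ≅ CohB1.tensorMod K (Mb σ L a' b))) ∧
      ∀ (a : ℤ) (b : ℕ), ∃ S : ShortComplex X.Modules, S.ShortExact ∧
        Nonempty (S.X₁ ≅ Mb σ L a b) ∧ Nonempty (S.X₂ ≅ Mb σ L a (b + 1)) ∧
        Nonempty (S.X₃ ≅ CohB1.tensorMod K (Mb σ L a b)) := by
  obtain ⟨C₀⟩ := nonempty_centre p hp
  obtain ⟨s, hs, hK⟩ := exists_section hL
  haveI := hs
  have hG : PicF.IsInvertible (P σ ((1 : ℕ) : ℤ)) := isInvertible_P σ _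
  let γ := Amp73.pullS σ (O k ((1 : ℕ) : ℤ)) ⊤ (sG (fX (k := k) C₀.l))
  have hiso : ∀ x : X, Subsingleton ((cokernel s).presheaf.stalk x) ∨
      ∃ U : X.Opens, x ∈ U ∧ LineBundle.IsFrame (P σ ((1 : ℕ) : ℤ)) U (LineBundle.res _ le_top γ) := by
    intro x
    by_cases hx : x ∈ (BlowUp.exceptional σ (mI p hp)).support
    · refine Or.inr ⟨σ ⁻¹ᵁ chart k C₀.l, ?_, ?_⟩
      · have h1 : σ x ∈ (mI p hp).support := by
          have h := hx
          rw [BlowUp.exceptional, Scheme.IdealSheafData.support_comap] at h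
          exact h
        have h2 : σ x = p := (Scheme.IdealSheafData.coe_support_vanishingIdeal ⟨{p}, hp⟩).le h1
        show σ x ∈ chart k C₀.l
        exact h2 ▸ C₀.mem
      · rw [show LineBundle.res _ le_top γ = _ from res_pullS_top (b := σ) _ _ (chart k C₀.l), res_sG, φ_fX_self,
          one_smul]
        exact Props58.PullTensor.isFrame_pullS σ (isFrame_chart C₀.l)
    · exact Or.inl (hK x hx)
  have hstep : ∀ (a : ℤ) (b : ℕ),
      Nonempty (CohB1.tensorMod (cokernel s) (Mb σ L (a + 1) b) ≅ CohB1.tensorMod (cokernel s) (Mb σ L a b)) := by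
    intro a b
    obtain ⟨e₁⟩ := nonempty_twist_iso (cokernel s) hG γ hiso (Mb σ L a b)
    obtain ⟨e₂⟩ := nonempty_P_add σ (show ((1 : ℕ) : ℤ) + a = a + 1 by push_cast; ring)
    exact ⟨tensIso (Iso.refl _) (tensIso e₂.symm (Iso.refl _) ≪≫ tensAssoc' _ _ _) ≪≫ e₁⟩
  refine ⟨cokernel s, fun a a' b => ?_, fun a b => ?_⟩
  · have h0 : ∀ a : ℤ, Nonempty (CohB1.tensorMod (cokernel s) (Mb σ L a b) ≅
        CohB1.tensorMod (cokernel s) (Mb σ L 0 b)) := fun a => by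
      induction a using Int.induction_on with
      | zero => exact ⟨Iso.refl _⟩
      | succ i ih => exact ⟨(hstep i b).some ≪≫ ih.some⟩
      | pred i ih =>
        have h := hstep (-(i : ℤ) - 1) b
        rw [sub_add_cancel] at h
        exact ⟨h.some.symm ≪≫ ih.some⟩
    exact ⟨(h0 a).some ≪≫ (h0 a').some.symm⟩
  · obtain ⟨T, hT, ⟨f₁⟩, ⟨f₂⟩, ⟨f₃⟩⟩ := exists_seq s (isInvertible_Mb σ L hL a b)
    exact ⟨T, hT, ⟨f₁⟩, ⟨f₂ ≪≫ tensComm _ _ ≪≫ tensAssoc' _ _ _⟩, ⟨f₃⟩⟩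

end Groth.Agent.LC17.BlowLB
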