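import Groth.Agent.LC17.BlowLB.Setup
import Groth.Agent.Res23.BlowProper
import Groth.Agent.Serre71.Finite

/-!
The cohomology of `p H + b E` on the plane blown up at a point, `b ≥ 0`.
-/

set_option autoImplicit false
set_option backward.isDefEq.respectTransparency.types false

noncomputable section

universe u

open CategoryTheory CategoryTheory.Limits AlgebraicGeometry

namespace Groth.Agent.LC17.BlowLB

open RegImm10.BlowP2.Centre (mI)
open RegImm10 RegImm10.BlowP2

variable {k : Type u} [Field k] {X : Scheme.{u}} [X.Over (Spec (CommRingCat.of k))]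

/-- the cohomology modules -/
abbrev HQ (k : Type u) [Field k] [X.Over (Spec (CommRingCat.of k))] (M : X.Modules) (q : ℕ) : Type u :=
  Coh.HH X M q

theorem subsingleton_of_iso {M N : X.Modules} (e : M ≅ N) (q : ℕ) (h : Subsingleton (HQ k M q)) :
    Subsingleton (HQ k N q) :=
  (Crv77.hEquiv k e q).symm.injective.subsingleton

section seq

variable {S : ShortComplex X.Modules} (hS : S.ShortExact) {A B Q : X.Modules} (e₁ : S.X₁ ≅ A) (e₂ : S.X₂ ≅ B)
  (e₃ : S.X₃ ≅ Q)
include hS e₁ e₂ e₃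

theorem sub_third (q : ℕ) (hB : Subsingleton (HQ k B q)) (hA : Subsingleton (HQ k A (q + 1))) :
    Subsingleton (HQ k Q q) := by
  have h2 := subsingleton_of_iso e₂.symm q hB
  have h1 := subsingleton_of_iso e₁.symm (q + 1) hA
  refine subsingleton_of_iso e₃ q (subsingleton_of_forall_eq 0 fun x => ?_)
  obtain ⟨y, rfl⟩ := ((Crv77.exact_g_δ k hS q) x).1 (Subsingleton.elim _ _)
  rw [h2.elim y 0, map_zero]

theorem sub_first_zero (hB : Subsingleton (HQ k B 0)) : Subsingleton (HQ k A 0) :=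
  haveI := subsingleton_of_iso e₂.symm 0 hB
  subsingleton_of_iso e₁ 0 (Crv77.injective_f_zero k hS).subsingleton

theorem sub_first_succ (q : ℕ) (hB : Subsingleton (HQ k B (q + 1))) (hQ : Subsingleton (HQ k Q q)) :
    Subsingleton (HQ k A (q + 1)) := by
  have h2 := subsingleton_of_iso e₂.symm (q + 1) hB
  have h3 := subsingleton_of_iso e₃.symm q hQ
  refine subsingleton_of_iso e₁ (q + 1) (subsingleton_of_forall_eq 0 fun x => ?_)
  obtain ⟨y, rfl⟩ := ((Crv77.exact_δ_f k hS q) x).1 (h2.elim _ _)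
  rw [h3.elim y 0, map_zero]

theorem sub_second (q : ℕ) (hA : Subsingleton (HQ k A q)) (hQ : Subsingleton (HQ k Q q)) :
    Subsingleton (HQ k B q) := by
  have h1 := subsingleton_of_iso e₁.symm q hA
  have h3 := subsingleton_of_iso e₃.symm q hQ
  refine subsingleton_of_iso e₂ q (subsingleton_of_forall_eq 0 fun x => ?_)
  obtain ⟨y, rfl⟩ := ((Crv77.exact_f_g k hS q) x).1 (h3.elim _ _)
  rw [h1.elim y 0, map_zero]

theorem equiv_third (q : ℕ) (h : Subsingleton (HQ k B q)) (h' : Subsingleton (HQ k B (q + 1))) :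
    Module.finrank k (HQ k Q q) = Module.finrank k (HQ k A (q + 1)) := by
  have h2 := subsingleton_of_iso e₂.symm q h
  have h2' := subsingleton_of_iso e₂.symm (q + 1) h'
  rw [← (Crv77.hEquiv k e₁ (q + 1)).finrank_eq, ← (Crv77.hEquiv k e₃ q).finrank_eq]
  refine (LinearEquiv.ofBijective (Crv77.hδ k hS q) ⟨(injective_iff_map_eq_zero _).2 fun x hx => ?_, fun y =>
    ((Crv77.exact_δ_f k hS q) y).1 (h2'.elim _ _)⟩).finrank_eq
  obtain ⟨z, rfl⟩ := ((Crv77.exact_g_δ k hS q) x).1 hx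
  rw [h2.elim z 0, map_zero]

theorem rank_zero (hQ : Subsingleton (HQ k Q 0)) :
    Module.finrank k (HQ k B 0) = Module.finrank k (HQ k A 0) := by
  have h3 := subsingleton_of_iso e₃.symm 0 hQ
  rw [← (Crv77.hEquiv k e₁ 0).finrank_eq, ← (Crv77.hEquiv k e₂ 0).finrank_eq]
  exact (LinearEquiv.ofBijective (Crv77.hmap k S.f 0) ⟨Crv77.injective_f_zero k hS, fun y =>
    ((Crv77.exact_f_g k hS 0) y).1 (h3.elim _ _)⟩).finrank_eq.symm

theorem rank_one_two (hfin : ∀ q, Module.Finite k (HQ k A q)) (hfinB : ∀ q, Module.Finite k (HQ k B q))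
    (hfinQ : ∀ q, Module.Finite k (HQ k Q q))
    (hQ0 : Subsingleton (HQ k Q 0)) (hQ2 : Subsingleton (HQ k Q 2)) :
    Module.finrank k (HQ k B 1) + Module.finrank k (HQ k A 2) =
      Module.finrank k (HQ k A 1) + Module.finrank k (HQ k Q 1) + Module.finrank k (HQ k B 2) := by
  haveI : ∀ q, Module.Finite k (HQ k S.X₁ q) := fun q =>
    haveI := hfin q; Module.Finite.equiv (Crv77.hEquiv k e₁ q).symm
  haveI : ∀ q, Module.Finite k (HQ k S.X₂ q) := fun q =>
    haveI := hfinB q; Module.Finite.equiv (Crv77.hEquiv k e₂ q).symm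
  haveI : ∀ q, Module.Finite k (HQ k S.X₃ q) := fun q =>
    haveI := hfinQ q; Module.Finite.equiv (Crv77.hEquiv k e₃ q).symm
  have h30 := subsingleton_of_iso e₃.symm 0 hQ0
  have h32 := subsingleton_of_iso e₃.symm 2 hQ2
  rw [← (Crv77.hEquiv k e₂ 1).finrank_eq, ← (Crv77.hEquiv k e₁ 2).finrank_eq,
    ← (Crv77.hEquiv k e₁ 1).finrank_eq, ← (Crv77.hEquiv k e₃ 1).finrank_eq, ← (Crv77.hEquiv k e₂ 2).finrank_eq]
  let f₁ := Crv77.hmap k S.f 1
  let g₁ := Crv77.hmap k S.g 1
  let d₁ := Crv77.hδ k hS 1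
  let f₂ := Crv77.hmap k S.f 2
  have hf₁ : Function.Injective f₁ := (injective_iff_map_eq_zero _).2 fun x hx => by
    obtain ⟨y, rfl⟩ := ((Crv77.exact_δ_f k hS 0) x).1 hx
    rw [h30.elim y 0, map_zero]
  have hf₂ : Function.Surjective f₂ := fun y => ((Crv77.exact_f_g k hS 2) y).1 (h32.elim _ _)
  have a₁ := LinearMap.finrank_range_add_finrank_ker g₁
  rw [LinearMap.exact_iff.1 (Crv77.exact_f_g k hS 1), LinearMap.finrank_range_of_inj hf₁] at a₁
  have a₂ := LinearMap.finrank_range_add_finrank_ker d₁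
  rw [LinearMap.exact_iff.1 (Crv77.exact_g_δ k hS 1)] at a₂
  have a₃ := LinearMap.finrank_range_add_finrank_ker f₂
  rw [LinearMap.exact_iff.1 (Crv77.exact_δ_f k hS 1), LinearMap.range_eq_top.2 hf₂, finrank_top] at a₃
  simp only [g₁, d₁, Nat.reduceAdd] at a₁ a₂ a₃
  simp only [HQ] at *
  omega

end seq

variable [IsAlgClosed k] (p : ↥(P2 k)) (hp : IsClosed ({p} : Set ↥(P2 k))) (σ : X ⟶ P2 k) (L : X.Modules)

/-- the expected values -/
def Val (a : ℤ) (b : ℕ) : Prop :=
  Module.finrank k (HQ k (Mb σ L a b) 0) = (a + 2).toNat.choose 2 ∧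
    Module.finrank k (HQ k (Mb σ L a b) 1) = b.choose 2 - (-a - 1).toNat.choose 2 ∧
    Module.finrank k (HQ k (Mb σ L a b) 2) = (-a - 1).toNat.choose 2 - b.choose 2 ∧
    ∀ q, 3 ≤ q → Subsingleton (HQ k (Mb σ L a b) q)

variable (hσk : σ ≫ CohB1.ProjSpace.toSpec 2 k = X ↘ Spec (CommRingCat.of k))
  (hσ : BlowUp.IsBlowUp σ (mI p hp))
  (hL : ClSub.IsInverseOf L (ClSub.idealMod (BlowUp.exceptional σ (mI p hp))))
include hσk hσ

theorem isProper_over : IsProper (X ↘ Spec (CommRingCat.of k)) := by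
  haveI : IsProper (P2 k ↘ Spec (CommRingCat.of k)) := Curves2.ProjLine.isProper_toSpec k 2
  haveI : IsLocallyNoetherian (P2 k) :=
    LocallyOfFiniteType.isLocallyNoetherian (P2 k ↘ Spec (CommRingCat.of k))
  haveI := Res23.isProper_of_isBlowUp hσ
  rw [← hσk]
  haveI : IsProper (CohB1.ProjSpace.toSpec 2 k) := Curves2.ProjLine.isProper_toSpec k 2
  infer_instance

theorem finite_of_invertible {M : X.Modules} (hM : PicF.IsInvertible M) (q : ℕ) : Module.Finite k (HQ k M q) :=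
  haveI := isProper_over p hp σ hσk hσ
  Serre71.finite_hh_of_isProper k M (Amp73.isCoh_of_isInvertible hM) q

theorem isInvertible_pullMul (a : ℤ) (b : ℕ) : PicF.IsInvertible (BlowCech.pullMul σ (mI p hp) (O k a) b) := by
  refine EGA73.isInvertible_tensorMod (isInvertible_P σ a) ((Curves2.isInvertible_idealMod_iff _).2 fun z => ?_)
  obtain ⟨V, hzV, f, hf, hI⟩ := hσ.1 z
  exact ⟨V, hzV, f ^ b, pow_mem hf b, by
    rw [Scheme.IdealSheafData.ideal_pow, Pi.pow_apply, BlowUp.exceptional, hI, Ideal.span_singleton_pow]⟩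

/-- subsingleton cohomology of `a H - b E` -/
theorem sub_pullMul (a : ℤ) (b q : ℕ)
    (h : Module.finrank k (HQ k (BlowCech.pullMul σ (mI p hp) (O k a) b) q) = 0) :
    Subsingleton (HQ k (BlowCech.pullMul σ (mI p hp) (O k a) b) q) :=
  haveI := finite_of_invertible p hp σ hσk hσ (isInvertible_pullMul p hp σ hσk hσ a b) q
  Module.finrank_zero_iff.1 h

theorem sub_neg (n : ℤ) (q : ℕ)
    (h : Module.finrank k (HQ k (BlowCech.pullMul σ (mI p hp) (O k (n + 1)) 1) q) = 0) :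
    Subsingleton (HQ k (CohB1.tensorMod (Fb σ p hp) (Mb σ L n 0)) q) :=
  subsingleton_of_iso (nonempty_twist_neg σ L n).some.symm q (sub_pullMul p hp σ hσk hσ _ _ _ h)

theorem val_zero (a : ℤ) : Val σ L a 0 := by
  obtain ⟨e⟩ := nonempty_pullMul_zero σ L (p := p) (hp := hp) a
  have hq := fun q => (Crv77.hEquiv k e q).finrank_eq
  obtain ⟨h0, h1, h2, h3⟩ := BlowP2.values p hp a 0 σ hσk hσ
  refine ⟨(hq 0).trans (h0.trans (by simp)), (hq 1).trans (h1.trans (by simp)),
    (hq 2).trans (h2.trans (by simp)), fun q hq3 => subsingleton_of_iso e.symm q ?_⟩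
  exact sub_pullMul p hp σ hσk hσ a 0 q (h3 q hq3)

include hL

theorem sub_of_finrank {a : ℤ} {b q : ℕ} (h : Module.finrank k (HQ k (Mb σ L a b) q) = 0) :
    Subsingleton (HQ k (Mb σ L a b) q) :=
  haveI := finite_of_invertible p hp σ hσk hσ (isInvertible_Mb σ L hL a b) q
  Module.finrank_zero_iff.1 h

/-- vanishing on the antidiagonals `a + b = n ≤ -1` -/
theorem low_vanish (n : ℤ) (hn : n ≤ -1) :
    ∀ (b : ℕ) (a : ℤ), a + b = n → ∀ q, (q ≤ 1 ∨ n = -1) → Subsingleton (HQ k (Mb σ L a b) q) := by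
  obtain ⟨K, hK⟩ := exists_line_seq σ L hσ hL
  have h0 : ∀ q, (q ≤ 1 ∨ n = -1) → Subsingleton (HQ k (Mb σ L n 0) q) := fun q hq => by
    obtain ⟨a0, a1, a2, a3⟩ := val_zero p hp σ L hσk hσ n
    rcases Nat.lt_or_ge q 3 with h | h
    · refine sub_of_finrank p hp σ L hσk hσ hL ?_
      interval_cases q
      · rw [a0]; exact Nat.choose_eq_zero_of_lt (by omega)
      · rw [a1]; simp
      · rw [a2, show (-n - 1).toNat = 0 by omega]; rfl
    · exact a3 q h
  have hQ : ∀ q, (q = 0 ∨ n = -1) → Subsingleton (HQ k (CohB1.tensorMod K (Mb σ L n 0)) q) := fun q hq => by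
    obtain ⟨S, hS, ⟨e₁⟩, ⟨e₂⟩, ⟨e₃⟩⟩ := hK n 0
    rw [Nat.cast_zero, add_zero] at e₃
    refine sub_third hS e₁ e₂ e₃ q (sub_neg p hp σ L hσk hσ n q ?_) (h0 (q + 1) (by omega))
    obtain ⟨b0, b1, b2, b3⟩ := BlowP2.values p hp (n + 1) 1 σ hσk hσ
    rcases Nat.lt_or_ge q 3 with h | h
    · interval_cases q
      · rw [b0]
        refine Nat.sub_eq_zero_of_le ?_
        exact le_trans (Nat.choose_le_choose 2 (by omega : (n + 1 + 2).toNat ≤ 2)) (by simp)
      · rw [b1, show (n + 1 + 2).toNat = 2 by omega]; rfl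
      · rw [b2]; exact Nat.choose_eq_zero_of_lt (by omega)
    · exact b3 q h
  intro b
  induction b with
  | zero =>
    intro a ha q hq
    have : a = n := by simpa using ha
    subst this
    exact h0 q hq
  | succ b ih =>
    intro a ha q hq
    obtain ⟨S, hS, ⟨e₁⟩, ⟨e₂⟩, ⟨e₃⟩⟩ := hK a (b + 1)
    rw [ha] at e₃
    obtain ⟨g⟩ := nonempty_twist_step σ L (p := p) (hp := hp) hL a b
    have hB : ∀ q, (q ≤ 1 ∨ n = -1) → Subsingleton (HQ k (CohB1.tensorMod (Fb σ p hp) (Mb σ L a (b + 1))) q) :=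
      fun q hq => subsingleton_of_iso g.symm q (ih (a + 1) (by push_cast at ha; omega) q hq)
    rcases q with _ | q
    · exact sub_first_zero hS e₁ e₂ e₃ (hB 0 hq)
    · exact sub_first_succ hS e₁ e₂ e₃ q (hB (q + 1) hq) (hQ q (by omega))

theorem val : ∀ (b : ℕ) (a : ℤ), Val σ L a b := by
  obtain ⟨K, hKinv, hK⟩ := exists_exc_seq σ L hσ hL
  intro b
  induction b with
  | zero => exact val_zero p hp σ L hσk hσ
  | succ b ih =>
    intro a
    have hlow := low_vanish p hp σ L hσk hσ hL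
    -- the cokernel through the antidiagonal `a + b = -2`
    obtain ⟨T, hT, ⟨t₁⟩, ⟨t₂⟩, ⟨t₃⟩⟩ := hK (-(b : ℤ) - 2) b
    obtain ⟨w⟩ := hKinv a (-(b : ℤ) - 2) b
    have hmid : ∀ q, Subsingleton (HQ k (Mb σ L (-(b : ℤ) - 2) (b + 1)) q) := fun q =>
      hlow (-1) le_rfl (b + 1) _ (by push_cast; ring) q (Or.inr rfl)
    obtain ⟨-, x1, x2, x3⟩ := ih (-(b : ℤ) - 2)
    have hA1 : Subsingleton (HQ k (Mb σ L (-(b : ℤ) - 2) b) 1) :=
      hlow (-2) (by norm_num) b _ (by ring) 1 (Or.inl le_rfl)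
    have kQ : ∀ q, q ≠ 1 → Subsingleton (HQ k (CohB1.tensorMod K (Mb σ L a b)) q) := fun q hq =>
      subsingleton_of_iso w.symm q (sub_third hT t₁ t₂ t₃ q (hmid q) (by
        rcases q with _ | q
        · exact hA1
        · exact x3 _ (by omega)))
    have hb : (b + 1).choose 2 = b.choose 2 + b := by
      rw [Nat.choose_succ_succ' b 1, Nat.choose_one_right]
      exact Nat.add_comm _ _
    have k1 : Module.finrank k (HQ k (CohB1.tensorMod K (Mb σ L a b)) 1) = b := by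
      rw [(Crv77.hEquiv k w 1).finrank_eq, equiv_third hT t₁ t₂ t₃ 1 (hmid 1) (hmid 2), x2,
        show (-(-(b : ℤ) - 2) - 1).toNat = b + 1 by omega, hb]
      omega
    obtain ⟨S, hS, ⟨e₁⟩, ⟨e₂⟩, ⟨e₃⟩⟩ := hK a b
    obtain ⟨y0, y1, y2, y3⟩ := ih a
    have fA := fun q => finite_of_invertible p hp σ hσk hσ (isInvertible_Mb σ L hL a b) q
    have fB := fun q => finite_of_invertible p hp σ hσk hσ (isInvertible_Mb σ L hL a (b + 1)) q
    have fQ : ∀ q, Module.Finite k (HQ k (CohB1.tensorMod K (Mb σ L a b)) q) := fun q => by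
      by_cases hq : q = 1
      · subst hq
        haveI := fA 2
        haveI : Module.Finite k (HQ k S.X₁ 2) := Module.Finite.equiv (Crv77.hEquiv k e₁ 2).symm
        haveI : Module.Finite k (HQ k S.X₂ 1) :=
          haveI := fB 1; Module.Finite.equiv (Crv77.hEquiv k e₂ 1).symm
        haveI : Module.Finite k (LinearMap.ker (Crv77.hδ k hS 1)) := by
          rw [LinearMap.exact_iff.1 (Crv77.exact_g_δ k hS 1)]
          exact Module.Finite.range _
        haveI : Module.Finite k (HQ k S.X₁ (1 + 1)) := (inferInstance : Module.Finite k (HQ k S.X₁ 2))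
        haveI : Module.Finite k (LinearMap.range (Crv77.hδ k hS 1)) :=
          Module.Finite.of_injective (LinearMap.range (Crv77.hδ k hS 1)).subtype Subtype.val_injective
        haveI : Module.Finite k (HQ k S.X₃ 1 ⧸ LinearMap.ker (Crv77.hδ k hS 1)) :=
          Module.Finite.equiv (Crv77.hδ k hS 1).quotKerEquivRange.symm
        haveI : Module.Finite k (HQ k S.X₃ 1) := Module.Finite.of_submodule_quotient (LinearMap.ker (Crv77.hδ k hS 1))
        exact Module.Finite.equiv (Crv77.hEquiv k e₃ 1)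
      · haveI := kQ q hq
        exact ⟨⟨∅, Subsingleton.elim _ _⟩⟩
    have hsum := rank_one_two hS e₁ e₂ e₃ fA fB fQ (kQ 0 (by omega)) (kQ 2 (by omega))
    rw [k1] at hsum
    refine ⟨(rank_zero hS e₁ e₂ e₃ (kQ 0 (by omega))).trans y0, ?_⟩
    have h3 : ∀ q, 3 ≤ q → Subsingleton (HQ k (Mb σ L a (b + 1)) q) := fun q hq =>
      sub_second hS e₁ e₂ e₃ q (y3 q hq) (kQ q (by omega))
    by_cases hn : a + (b + 1 : ℕ) ≤ -1
    · have h1 : Module.finrank k (HQ k (Mb σ L a (b + 1)) 1) = 0 := by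
        haveI := hlow (a + (b + 1 : ℕ)) hn (b + 1) a rfl 1 (Or.inl le_rfl)
        exact Module.finrank_zero_of_subsingleton
      have hm : (b + 1).choose 2 ≤ (-a - 1).toNat.choose 2 := Nat.choose_le_choose 2 (by omega)
      refine ⟨?_, ?_, h3⟩ <;> omega
    · have hm : (-a - 1).toNat.choose 2 ≤ b.choose 2 := Nat.choose_le_choose 2 (by omega)
      haveI : Subsingleton (HQ k (Mb σ L a b) 2) := sub_of_finrank p hp σ L hσk hσ hL (by omega)
      haveI : Subsingleton (HQ k (Mb σ L a (b + 1)) 2) :=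
        sub_second hS e₁ e₂ e₃ 2 inferInstance (kQ 2 (by omega))
      have h2 : Module.finrank k (HQ k (Mb σ L a (b + 1)) 2) = 0 := Module.finrank_zero_of_subsingleton
      refine ⟨?_, ?_, h3⟩ <;> omega

end Groth.Agent.LC17.BlowLB
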